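import Cfsg.Agent.FT.Basic
import Cfsg.Agent.FT.PLength
import Cfsg.Agent.FT.BG1.Chief
import Cfsg.Agent.FT.BG1.Coprime
import Cfsg.Agent.FT.BG1.Transfer
import Cfsg.Agent.FT.BG1.PLengthAmb

/-! Bender-Glauberman section 1 in ambient form, and 6.6, 6.7: import list. -/
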