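import Cfsg.Agent.FT.BG4.Blackburn
import Cfsg.Agent.FT.BG4.Huppert
import Cfsg.Agent.FT.BG4.Chief
import Cfsg.Agent.FT.BG4.Small
import Cfsg.Agent.FT.BG4Defs
import Cfsg.Agent.FT.Metacyclic
import Cfsg.Agent.FT.Rank
import Cfsg.Agent.FT.BG4.Compl
import Mathlib.GroupTheory.SpecificGroups.ZGroup

/-!
Bender-Glauberman section 4, ambient form: import list.
-/
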