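import Cfsg.Agent.FT.BG5.Prime
import Cfsg.Agent.FT.BG5.Aut
import Cfsg.Agent.FT.BG5.Narrow
import Cfsg.Agent.FT.BG4.Small
import Cfsg.Agent.FT.BG4

/-!
Bender-Glauberman section 5, ambient form: import list.
-/
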