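import Cfsg.Prelude.Def_OddOrderLocal
import Cfsg.Prelude.Def_Local
import Mathlib.GroupTheory.SpecificGroups.ZGroup
import Cfsg.Agent.FT.BG3.Semireg
import Cfsg.Agent.FT.BG3.CFix
import Cfsg.Agent.FT.BG3.T35
import Cfsg.Agent.FT.BG3.Count
import Cfsg.Agent.FT.BG3.T34
import Cfsg.Agent.FT.BG3.T38
import Cfsg.Agent.FT.BG3.T27

/-! Bender-Glauberman sections 2 (2.5, 2.7) and 3 (all but 3.6), Wielandt fixed point formula.
Ambient form; see the files `FT/BG3/*`. -/
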