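import Cfsg.Agent.FT.BG10.Core
import Cfsg.Agent.FT.BG10.T1
import Cfsg.Agent.FT.BG10.T2
import Cfsg.Agent.FT.BG10.T6
import Cfsg.Agent.FT.BG10.T8
import Cfsg.Agent.FT.BG10.T10
import Cfsg.Agent.FT.BG10.T13

/-!
Bender-Glauberman, section 10 (see the files `FT/BG10/*`).
`β(G)` is `IsIdealPrime p G`; `X ∈ 𝒰` is `InUniqueMaximal X`; `𝓜(X) = {M}` is `UniqMax X M`.
-/
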