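import Cfsg.Agent.FT.BG12.T12
import Cfsg.Agent.FT.BG12.T14
import Cfsg.Agent.FT.BG12.T18

/-! Bender–Glauberman, section 12 (all results 12.1–12.19): import list. -/
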