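import Cfsg.Agent.FT.BG14.T11
import Cfsg.Agent.FT.BG10Defs

/-!
B & G, section 14 (names as in the Coq file BGsection14); see the files `FT/BG14/*`.
`ℓ_σ(x) = 1` is `Ell1 x`; `|𝓜_σ(x)| > 1` is `(sigmaMmax x).Nontrivial`; `'N[x]` is `signalizerBase x`,
`'R[x]` is `signalizer x`; `M^~~` is `sigmaSupport M`.
-/
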