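import Cfsg.Agent.FT.BG15.Kappa
import Cfsg.Agent.FT.BG15.Pure
import Cfsg.Agent.FT.BG15.Fcore
import Cfsg.Agent.FT.BG15.NonTI
import Cfsg.Agent.FT.BG15.Signal

/-! B & G, section 15: import list. -/
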