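import Cfsg.Agent.FT.BG16.Types

/-! Interface of B & G, section 16 (the summaries in the language of types are in `FT/PF8`). -/
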