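import Cfsg.Agent.FT.CFInertia
import Cfsg.Agent.FT.CFInt
import Cfsg.Agent.FT.PF1
import Cfsg.Agent.FT.TI

/-!
The whole ambient class-function layer (except `CFExt`).
-/
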