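import Cfsg.Agent.FT.CFChar1
import Cfsg.Agent.FT.CFChar2
import Cfsg.Agent.FT.CFChar3
import Cfsg.Agent.FT.CFChar4

/-!
Ambient class functions: characters, irreducible characters, linear characters, kernels, centres.
-/
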