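import Cfsg.Agent.FT.CFInertia1
import Cfsg.Agent.FT.CFProd

/-!
Ambient class functions: Clifford theory (`CFInertia1`) together with products (`CFProd`).
-/
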