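import Cfsg.Agent.FT.PF3
import Cfsg.Agent.FT.PF4.Group
import Cfsg.Agent.FT.PF4.Mu
import Cfsg.Agent.FT.PF4.Red
import Cfsg.Agent.FT.PF4.Dade

/-! Peterfalvi, Section 4 (prime TI actions and the Dade isometry): import list. -/
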