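import Cfsg.Agent.FT.PF5Iso
import Cfsg.Agent.FT.PF5Sub
import Cfsg.Agent.FT.PF5Ext
import Cfsg.Agent.FT.PF5SeqInd
import Cfsg.Agent.FT.PF5Dade

/-! Peterfalvi section 5 (coherence): import list. -/
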