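import Cfsg.Agent.FT.BG16
import Cfsg.Agent.FT.PF8.TypeF
import Cfsg.Agent.FT.PF8.Supp
import Cfsg.Agent.FT.PF8.Part
import Cfsg.Agent.FT.PF8.Char
import Cfsg.Agent.FT.PF5Defs2

/-! Interface of Peterfalvi, section 8: import list. -/
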