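import Cfsg.Agent.FT.PF5
import Cfsg.Agent.FT.PF6.A
import Cfsg.Agent.FT.PF6.B
import Cfsg.Agent.FT.PF6.C
import Cfsg.Agent.FT.PF6.D
import Cfsg.Agent.FT.PF6.E

/-! Peterfalvi section 6: import list. -/
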