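import Cfsg.Agent.FT.PF10.Bridge
import Cfsg.Agent.FT.PF10.Noncoh
import Cfsg.Agent.FT.PF10.Type5
import Cfsg.Agent.FT.PF10.Main
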