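import Cfsg.Agent.FT.PF3Defs
import Cfsg.Agent.FT.Norm
import Cfsg.Agent.FT.PF9.Basic
import Cfsg.Agent.FT.PF9.Kernel
import Cfsg.Agent.FT.PF9.Galois
import Cfsg.Agent.FT.PF9.NonGalois
import Cfsg.Agent.FT.PF9.Red
import Cfsg.Agent.FT.PF9.GalChar
import Cfsg.Agent.FT.PF9.NonGalChar
import Cfsg.Agent.FT.PF9.Cases

/-! Peterfalvi (9.2)-(9.10). -/
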