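import Cfsg.Agent.FT.PF12.Contra

/-! Peterfalvi, section 12 (import list; the proofs are in `FT/PF12/*`). -/
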