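import Cfsg.Agent.FT.PF3.Hat
import Cfsg.Agent.FT.PF3.Hyp
import Cfsg.Agent.FT.PF3.Omega
import Cfsg.Agent.FT.PF3.Sigma
import Cfsg.Agent.FT.PF3.Aut

/-! Peterfalvi, Section 3 (cyclic TI-subsets): import list. -/
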